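import Mathlib

/-!
# Powers of a nonabelian simple group are generated by three elements

`S` simple nonabelian, generated by `a, b`; `c : Fin n → S` injective. Then `(a,…,a), (b,…,b), c` generate `S ^ n`.
-/

set_option autoImplicit false

namespace Cfsg.Agent.H288.EP

open Subgroup
open scoped commutatorElement

section

variable {S : Type*} [Group S] {n : ℕ}

/-- the values at `i` of the elements of `H` which are trivial on `J` -/
def val (H : Subgroup (Fin n → S)) (J : Finset (Fin n)) (i : Fin n) : Subgroup S where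
  carrier := {s | ∃ h ∈ H, (∀ j ∈ J, h j = 1) ∧ h i = s}
  one_mem' := ⟨1, H.one_mem, fun _ _ => rfl, rfl⟩
  mul_mem' := by
    rintro _ _ ⟨h, hh, h1, rfl⟩ ⟨k, hk, k1, rfl⟩
    exact ⟨h * k, H.mul_mem hh hk, fun j hj => by rw [Pi.mul_apply, h1 j hj, k1 j hj, one_mul], rfl⟩
  inv_mem' := by
    rintro _ ⟨h, hh, h1, rfl⟩
    exact ⟨h⁻¹, H.inv_mem hh, fun j hj => by rw [Pi.inv_apply, h1 j hj, inv_one], rfl⟩

theorem mem_val {H : Subgroup (Fin n → S)} {J : Finset (Fin n)} {i : Fin n} {s : S} :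
    s ∈ val H J i ↔ ∃ h ∈ H, (∀ j ∈ J, h j = 1) ∧ h i = s := Iff.rfl

theorem val_normal {H : Subgroup (Fin n → S)} (hD : ∀ s : S, (fun _ => s) ∈ H) (J : Finset (Fin n)) (i : Fin n) :
    (val H J i).Normal := by
  refine ⟨?_⟩
  rintro _ ⟨h, hh, h1, rfl⟩ s
  refine ⟨(fun _ => s) * h * (fun _ => s)⁻¹, H.mul_mem (H.mul_mem (hD s) hh) (H.inv_mem (hD s)), fun j hj => ?_, rfl⟩
  show s * h j * s⁻¹ = 1
  rw [h1 j hj, mul_one, mul_inv_cancel]

theorem val_top [hs : IsSimpleGroup S] (hn : ¬ ∀ a b : S, a * b = b * a) {H : Subgroup (Fin n → S)}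
    (hD : ∀ s : S, (fun _ => s) ∈ H) {c : Fin n → S} (hcH : c ∈ H) (hc : Function.Injective c) (i : Fin n)
    (J : Finset (Fin n)) (hi : i ∉ J) : val H J i = ⊤ := by
  classical
  induction J using Finset.induction_on with
  | empty =>
    rw [eq_top_iff']
    intro s
    exact ⟨_, hD s, fun j hj => absurd hj (Finset.notMem_empty j), rfl⟩
  | insert k J hk ih =>
    rw [Finset.mem_insert, not_or] at hi
    have h1 := ih hi.2
    -- a nontrivial value with trivial `k`-coordinate
    have h2 : val H {k} i = ⊤ := by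
      refine ((val_normal hD {k} i).eq_bot_or_eq_top).resolve_left fun h => ?_
      have h3 : c i * (c k)⁻¹ ∈ val H {k} i := by
        refine ⟨c * (fun _ => c k)⁻¹, H.mul_mem hcH (H.inv_mem (hD _)), fun j hj => ?_, rfl⟩
        rw [Finset.mem_singleton] at hj
        subst hj
        show c j * (c j)⁻¹ = 1
        exact mul_inv_cancel _
      rw [h, mem_bot, mul_inv_eq_one] at h3
      exact hi.1 (hc h3)
    refine ((val_normal hD (insert k J) i).eq_bot_or_eq_top).resolve_left fun h => hn fun s t => ?_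
    obtain ⟨x, hx, hx1, rfl⟩ := mem_val.1 (h1 ▸ mem_top s : s ∈ val H J i)
    obtain ⟨y, hy, hy1, rfl⟩ := mem_val.1 (h2 ▸ mem_top t : t ∈ val H {k} i)
    have h4 : x i * y i * (x i)⁻¹ * (y i)⁻¹ ∈ val H (insert k J) i := by
      refine ⟨x * y * x⁻¹ * y⁻¹, H.mul_mem (H.mul_mem (H.mul_mem hx hy) (H.inv_mem hx)) (H.inv_mem hy),
        fun j hj => ?_, rfl⟩
      show x j * y j * (x j)⁻¹ * (y j)⁻¹ = 1
      rw [Finset.mem_insert] at hj
      rcases hj with rfl | hj
      · rw [hy1 j (Finset.mem_singleton_self j), mul_one, mul_inv_cancel, inv_one, one_mul]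
      · rw [hx1 j hj, one_mul, inv_one, mul_one, mul_inv_cancel]
    rw [h, mem_bot, mul_inv_eq_one, mul_inv_eq_iff_eq_mul] at h4
    exact h4

/-- **three generators** -/
theorem gen_three [hs : IsSimpleGroup S] (hn : ¬ ∀ a b : S, a * b = b * a) {a b : S}
    (hab : closure ({a, b} : Set S) = ⊤) {c : Fin n → S} (hc : Function.Injective c) :
    closure ({(fun _ => a), (fun _ => b), c} : Set (Fin n → S)) = ⊤ := by
  classical
  set H := closure ({(fun _ => a), (fun _ => b), c} : Set (Fin n → S)) with hH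
  have hcH : c ∈ H := subset_closure (by simp)
  have hD : ∀ s : S, (fun _ => s) ∈ H := by
    intro s
    let f : S →* (Fin n → S) := { toFun := fun s _ => s, map_one' := rfl, map_mul' := fun _ _ => rfl }
    have h1 : closure ({a, b} : Set S) ≤ H.comap f := by
      rw [closure_le]
      rintro x (rfl | rfl)
      · exact subset_closure (Or.inl rfl)
      · exact subset_closure (Or.inr (Or.inl rfl))
    have h2 : s ∈ H.comap f := h1 (hab ▸ mem_top s)
    exact h2
  rw [eq_top_iff']
  intro g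
  have h1 : ∀ i : Fin n, Pi.mulSingle i (g i) ∈ H := by
    intro i
    have h2 := val_top hn hD hcH hc i (Finset.univ.erase i) (Finset.notMem_erase i _)
    obtain ⟨h, hh, h3, h4⟩ := mem_val.1 (h2 ▸ mem_top (g i) : g i ∈ val H (Finset.univ.erase i) i)
    have h5 : h = Pi.mulSingle i (g i) := by
      funext j
      by_cases hj : j = i
      · subst hj
        rw [Pi.mulSingle_eq_same, h4]
      · rw [Pi.mulSingle_eq_of_ne hj, h3 j (Finset.mem_erase.2 ⟨hj, Finset.mem_univ j⟩)]
    rw [← h5]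
    exact hh
  rw [← Finset.noncommProd_mulSingle g]
  exact Subgroup.noncommProd_mem _ _ fun i _ => h1 i

end

/-- the number of 3-generated subgroups -/
theorem ncard_gen3_le {B : Type*} [Group B] [Finite B] {𝒮 : Set (Subgroup B)}
    (hgen : ∀ X ∈ 𝒮, ∃ a b c : X, closure ({a, b, c} : Set X) = ⊤) : 𝒮.ncard ≤ Nat.card B ^ 3 := by
  classical
  have h1 : ∀ X ∈ 𝒮, ∃ p : B × B × B, closure ({p.1, p.2.1, p.2.2} : Set B) = X := by
    intro X hX
    obtain ⟨a, b, c, h⟩ := hgen X hX
    refine ⟨(a, b, c), ?_⟩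
    have h2 := congrArg (Subgroup.map X.subtype) h
    rw [MonoidHom.map_closure, Set.image_insert_eq, Set.image_pair, ← MonoidHom.range_eq_map, X.range_subtype] at h2
    exact h2
  choose! f hf using h1
  have hinj : Set.InjOn f 𝒮 := by
    intro X hX Y hY e
    rw [← hf X hX, ← hf Y hY, e]
  have h2 := Set.ncard_le_ncard (Set.subset_univ (f '' 𝒮)) (Set.toFinite _)
  rw [hinj.ncard_image, Set.ncard_univ, Nat.card_prod, Nat.card_prod] at h2
  calc 𝒮.ncard ≤ _ := h2
    _ = Nat.card B ^ 3 := by ring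

end Cfsg.Agent.H288.EP
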